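import Cfsg.Agent.Lib.Helper12.TC.Fi23o31671.Tab
import Cfsg.Agent.Lib.Helper12.TC.Fn.LowerParts

/-! checks for the lower bound of the order, part 1 (generated, helper12) -/

set_option autoImplicit false
set_option maxRecDepth 100000

namespace Cfsg.Agent.Lib.Helper12.TC.Fi23o31671

open Cfsg.Agent.Lib.Helper12.TC

theorem hs11_1 : Fn.slpColK TT 11 [2, 9, 1, 4, 1, 7, 7, 7, 10, 6, 3, 1, 7, 0, 6, 6, 9, 0, 7, 4, 3, 9, 1, 5] 4800 4800 = true := by decide +kernel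

theorem hz_9 : Fn.eqWordsK TT [10] [1, 2, 3, 4, 5, 6, 8, 1, 2, 3, 4, 5, 6, 8, 1, 2, 3, 4, 5, 6, 8, 1, 2, 3, 4, 5, 6, 8, 1, 2, 3, 4, 5, 6, 8, 1, 2, 3, 4, 5, 6, 8, 1, 2, 3, 4, 5, 6, 8, 1, 2, 3, 4, 5, 6, 8, 1, 2, 3, 4, 5, 6, 8] 16875 1875 = true := by decide +kernel

theorem h3t1_13 : Fn.eqWordsK TT [10, 7, 6, 5, 4, 3, 8, 2, 3, 4, 5, 6, 7, 10, 7, 6, 5, 4, 3, 2, 8, 3, 4, 5, 6, 7, 10, 7, 6, 5, 4, 3, 8, 2, 3, 4, 5, 6, 7, 10, 7, 6, 5, 4, 3, 2, 8, 3, 4, 5, 6, 7] [] 29991 1680 = true := by decide +kernel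

theorem hc0_1 : Fn.eqWordsK TT [0, 10] [10, 0] 30000 1671 = true := by decide +kernel

theorem hc8_1 : Fn.eqWordsK TT [9, 10] [10, 9] 30000 1671 = true := by decide +kernel

end Cfsg.Agent.Lib.Helper12.TC.Fi23o31671
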