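import Cfsg.Agent.Lib.Helper12.TC.Fi23o31671.Tab
import Cfsg.Agent.Lib.Helper12.TC.Fn.LowerParts

/-! checks for the lower bound of the order, part 15 (generated, helper12) -/

set_option autoImplicit false
set_option maxRecDepth 100000

namespace Cfsg.Agent.Lib.Helper12.TC.Fi23o31671

open Cfsg.Agent.Lib.Helper12.TC

theorem hs13_3 : Fn.slpColK TT 13 [11, 12, 12, 11, 12, 11, 11, 6, 8, 10, 1, 2, 10, 4, 1, 5, 8, 6, 8, 10, 3, 4, 4, 9, 7, 8, 6, 9, 0, 7, 3] 11250 3750 = true := by decide +kernel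

theorem hs25_4 : Fn.slpColK TT 25 [22, 21, 21, 20, 22, 21, 17, 20, 17, 18, 14, 14, 16, 13, 14, 13, 12, 9, 5, 7, 6, 5, 6, 1, 1, 5, 9, 7, 1, 4, 3, 9, 8, 7, 10, 5, 4, 2, 8, 3, 4] 11428 2857 = true := by decide +kernel

theorem hs10_11 : Fn.slpColK TT 10 [7, 6, 5, 4, 3, 2, 1, 8, 3, 2, 4, 3, 5, 4, 6, 5, 8, 3, 2, 1, 4, 3, 2, 8, 3, 4, 5, 6, 7, 6, 5, 4, 3, 8, 2, 3, 4, 1, 2, 3, 8, 5, 6, 4, 5, 3, 4, 2, 3, 8, 1, 2, 3, 4, 5, 6, 7] 22748 2068 = true := by decide +kernel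

end Cfsg.Agent.Lib.Helper12.TC.Fi23o31671
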