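import Cfsg.Agent.Lib.Helper12.TC.Fi23o31671.Tab
import Cfsg.Agent.Lib.Helper12.TC.Fn.LowerParts

/-! checks for the lower bound of the order, part 23 (generated, helper12) -/

set_option autoImplicit false
set_option maxRecDepth 100000

namespace Cfsg.Agent.Lib.Helper12.TC.Fi23o31671

open Cfsg.Agent.Lib.Helper12.TC

theorem hs16_3 : Fn.slpColK TT 16 [13, 15, 12, 12, 11, 8, 2, 8, 8, 3, 6, 0, 7, 5, 9, 8, 3, 8, 6, 7, 5, 6, 5, 0, 8, 8, 9, 9, 5] 12000 4000 = true := by decide +kernel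

theorem hs14_1 : Fn.slpColK TT 14 [13, 13, 13, 13, 13, 13, 13, 12, 6, 6, 10, 2, 5, 8, 10, 5, 1, 7, 10, 8, 1, 2, 8, 6, 5, 7, 0, 7, 0, 4, 9, 9] 3636 3636 = true := by decide +kernel

theorem hs24_7 : Fn.slpColK TT 24 [22, 21, 22, 20, 22, 21, 17, 20, 21, 22, 13, 15, 13, 12, 3, 9, 7, 2, 9, 8, 1, 5, 0, 6, 1, 6, 2, 2, 5, 1, 9, 9, 6, 1, 9, 8, 3, 9] 21532 3076 = true := by decide +kernel

end Cfsg.Agent.Lib.Helper12.TC.Fi23o31671
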