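import Cfsg.Agent.Lib.Helper12.TC.Fi23o31671.Tab
import Cfsg.Agent.Lib.Helper12.TC.Fn.LowerParts

/-! checks for the lower bound of the order, part 31 (generated, helper12) -/

set_option autoImplicit false
set_option maxRecDepth 100000

namespace Cfsg.Agent.Lib.Helper12.TC.Fi23o31671

open Cfsg.Agent.Lib.Helper12.TC

theorem hs17_4 : Fn.slpColK TT 17 [7, 9, 0, 3, 10, 2, 8, 9, 2, 1, 8, 4, 0, 10, 1, 1, 0, 7, 0, 4, 3, 4, 1, 9] 19200 4800 = true := by decide +kernel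

theorem hs15_1 : Fn.slpColK TT 15 [12, 12, 9, 6, 10, 2, 2, 8, 3, 0, 3, 8, 8, 3, 6, 8, 5, 9, 5, 7, 4, 10, 8, 9, 0, 6] 4444 4444 = true := by decide +kernel

theorem h3t1_5 : Fn.eqWordsK TT [10, 7, 6, 5, 4, 3, 8, 2, 3, 4, 5, 6, 7, 10, 7, 6, 5, 4, 3, 2, 8, 3, 4, 5, 6, 7, 10, 7, 6, 5, 4, 3, 8, 2, 3, 4, 5, 6, 7, 10, 7, 6, 5, 4, 3, 2, 8, 3, 4, 5, 6, 7] [] 11535 2307 = true := by decide +kernel

end Cfsg.Agent.Lib.Helper12.TC.Fi23o31671
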