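import Cfsg.Agent.Lib.Helper12.TC.Fi23o31671.Tab
import Cfsg.Agent.Lib.Helper12.TC.Fn.LowerParts

/-! checks for the lower bound of the order, part 55 (generated, helper12) -/

set_option autoImplicit false
set_option maxRecDepth 100000

namespace Cfsg.Agent.Lib.Helper12.TC.Fi23o31671

open Cfsg.Agent.Lib.Helper12.TC

theorem hc5_0 : Fn.eqWordsK TT [5, 10] [10, 5] 0 30000 = true := by decide +kernel

theorem hs18_2 : Fn.slpColK TT 18 [16, 14, 14, 16, 15, 12, 2, 5, 4, 1, 2, 2, 4, 8, 2, 10, 4, 10, 4, 7, 5, 7, 7, 1, 0, 4, 6, 5, 6, 3] 7740 3870 = true := by decide +kernel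

theorem hs26_8 : Fn.slpColK TT 26 [25, 23, 21, 24, 19, 21, 21, 17, 20, 17, 18, 14, 16, 18, 16, 15, 13, 16, 12, 12, 9, 0, 10, 7, 4, 10, 3, 2, 3, 2, 1, 4, 6, 3, 2, 2, 8, 9, 1, 5, 6, 3, 2, 0] 21328 2666 = true := by decide +kernel

end Cfsg.Agent.Lib.Helper12.TC.Fi23o31671
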