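import Cfsg.Agent.Lib.Helper12.TC.Fi23o31671.Tab
import Cfsg.Agent.Lib.Helper12.TC.Fn.LowerParts

/-! checks for the lower bound of the order, part 59 (generated, helper12) -/

set_option autoImplicit false
set_option maxRecDepth 100000

namespace Cfsg.Agent.Lib.Helper12.TC.Fi23o31671

open Cfsg.Agent.Lib.Helper12.TC

theorem hz_0 : Fn.eqWordsK TT [10] [1, 2, 3, 4, 5, 6, 8, 1, 2, 3, 4, 5, 6, 8, 1, 2, 3, 4, 5, 6, 8, 1, 2, 3, 4, 5, 6, 8, 1, 2, 3, 4, 5, 6, 8, 1, 2, 3, 4, 5, 6, 8, 1, 2, 3, 4, 5, 6, 8, 1, 2, 3, 4, 5, 6, 8, 1, 2, 3, 4, 5, 6, 8] 0 1875 = true := by decide +kernel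

theorem hs18_6 : Fn.slpColK TT 18 [16, 14, 14, 16, 15, 12, 2, 5, 4, 1, 2, 2, 4, 8, 2, 10, 4, 10, 4, 7, 5, 7, 7, 1, 0, 4, 6, 5, 6, 3] 23220 3870 = true := by decide +kernel

theorem hs21_1 : Fn.slpColK TT 21 [20, 19, 19, 17, 17, 20, 20, 16, 14, 13, 12, 15, 11, 2, 0, 8, 0, 9, 3, 9, 7, 2, 9, 8, 0, 6, 3, 5, 1, 3, 9, 10, 6, 9, 3, 7, 1] 3157 3157 = true := by decide +kernel

end Cfsg.Agent.Lib.Helper12.TC.Fi23o31671
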