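import Cfsg.Agent.Lib.Helper12.TC.Fi23o31671.Tab

/-! relator checks for Fi23o31671, part 6 (generated, helper12) -/

set_option autoImplicit false
set_option maxRecDepth 100000

namespace Cfsg.Agent.Lib.Helper12.TC.Fi23o31671

open Cfsg.Agent.Lib.Helper12.TC

theorem horbi1_6 : Fn.orbInvOneK TT [6] 28161 31671 = true := by decide +kernel

theorem hperm1 : Fn.permOneK TT 1 cN = true := by decide +kernel

theorem hperm4 : Fn.permOneK TT 4 cN = true := by decide +kernel

theorem hm3 : Fn.marksK TT cN [([0, 3], 2)] = true := by decide +kernel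

theorem hm11 : Fn.marksK TT cN [([1, 5], 2)] = true := by decide +kernel

theorem hm19 : Fn.marksK TT cN [([4, 6], 2)] = true := by decide +kernel

theorem hm27 : Fn.marksK TT cN [([6, 7], 3)] = true := by decide +kernel

theorem hm35 : Fn.marksK TT cN [([7, 8], 2)] = true := by decide +kernel

theorem hm43 : Fn.marksK TT cN [([7, 9], 2)] = true := by decide +kernel

end Cfsg.Agent.Lib.Helper12.TC.Fi23o31671
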