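import Cfsg.Agent.Lib.Helper12.TC.Fi23o31671.Rel0
import Cfsg.Agent.Lib.Helper12.TC.Fi23o31671.Rel1
import Cfsg.Agent.Lib.Helper12.TC.Fi23o31671.Rel2
import Cfsg.Agent.Lib.Helper12.TC.Fi23o31671.Rel3
import Cfsg.Agent.Lib.Helper12.TC.Fi23o31671.Rel4
import Cfsg.Agent.Lib.Helper12.TC.Fi23o31671.Rel5
import Cfsg.Agent.Lib.Helper12.TC.Fi23o31671.Rel6
import Cfsg.Agent.Lib.Helper12.TC.Fi23o31671.Rel7
import Cfsg.Agent.Lib.Helper12.TC.Fi23Pres

/-! the permutation representation for Fi23o31671 (generated, helper12) -/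

set_option autoImplicit false
set_option maxRecDepth 100000
set_option linter.unusedSimpArgs false

namespace Cfsg.Agent.Lib.Helper12.TC.Fi23o31671

open Cfsg.Agent.Lib.Helper12.TC Cfsg.Agent.Lib.Helper12.TC.Fi23Pres

theorem hperm : Fn.permK TT 10 cN = true := by
  refine Fn.permK_of_ones (fun x hx => ?_)
  interval_cases x
  · exact hperm0
  · exact hperm1
  · exact hperm2
  · exact hperm3
  · exact hperm4
  · exact hperm5
  · exact hperm6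
  · exact hperm7
  · exact hperm8
  · exact hperm9

/-- words as powers -/
def specs : List (List ℕ × ℕ) :=
  [([0, 1], 3),
   ([0, 2], 2),
   ([1, 2], 3),
   ([0, 3], 2),
   ([1, 3], 2),
   ([2, 3], 3),
   ([0, 4], 2),
   ([1, 4], 2),
   ([2, 4], 2),
   ([3, 4], 3),
   ([0, 5], 2),
   ([1, 5], 2),
   ([2, 5], 2),
   ([3, 5], 2),
   ([4, 5], 3),
   ([0, 6], 2),
   ([1, 6], 2),
   ([2, 6], 2),
   ([3, 6], 2),
   ([4, 6], 2),
   ([5, 6], 3),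
   ([0, 7], 2),
   ([1, 7], 2),
   ([2, 7], 2),
   ([3, 7], 2),
   ([4, 7], 2),
   ([5, 7], 2),
   ([6, 7], 3),
   ([0, 8], 2),
   ([1, 8], 2),
   ([2, 8], 2),
   ([3, 8], 3),
   ([4, 8], 2),
   ([5, 8], 2),
   ([6, 8], 2),
   ([7, 8], 2),
   ([0, 9], 2),
   ([1, 9], 2),
   ([2, 9], 2),
   ([3, 9], 2),
   ([4, 9], 2),
   ([5, 9], 2),
   ([6, 9], 2),
   ([7, 9], 2),
   ([8, 9], 3),
   ([3, 2, 1, 3, 4, 5, 3, 8, 9], 10),
   ([0, 1, 2, 3, 4, 5, 8], 9)]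

theorem hspecs : coxWords Cfsg.Spor.Fi23.edges gen 10 ++ extraWords =
    specs.map (fun s => wpow s.1 s.2) := by
  decide +kernel

theorem hfix45 : ∀ i < cN, (Fn.applyW TT ([3, 2, 1, 3, 4, 5, 3, 8, 9], 10).1)^[([3, 2, 1, 3, 4, 5, 3, 8, 9], 10).2] i = i :=
  Fn.fix_of_rangeOK (Fn.rangeOK_step hm45_2 rfl
    (Fn.rangeOK_step hm45_1 rfl
    (Fn.rangeOK_step hm45_0 rfl
    (Fn.rangeOK_start TT [3, 2, 1, 3, 4, 5, 3, 8, 9] 10 cN))))

theorem hfix46 : ∀ i < cN, (Fn.applyW TT ([0, 1, 2, 3, 4, 5, 8], 9).1)^[([0, 1, 2, 3, 4, 5, 8], 9).2] i = i :=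
  Fn.fix_of_rangeOK (Fn.rangeOK_step hm46_1 rfl
    (Fn.rangeOK_step hm46_0 rfl
    (Fn.rangeOK_start TT [0, 1, 2, 3, 4, 5, 8] 9 cN)))

theorem hfixall : Fn.FixAll TT cN specs :=
  Fn.fixAll_cons (Fn.fix_of_marksK hm0)
    (Fn.fixAll_cons (Fn.fix_of_marksK hm1)
    (Fn.fixAll_cons (Fn.fix_of_marksK hm2)
    (Fn.fixAll_cons (Fn.fix_of_marksK hm3)
    (Fn.fixAll_cons (Fn.fix_of_marksK hm4)
    (Fn.fixAll_cons (Fn.fix_of_marksK hm5)
    (Fn.fixAll_cons (Fn.fix_of_marksK hm6)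
    (Fn.fixAll_cons (Fn.fix_of_marksK hm7)
    (Fn.fixAll_cons (Fn.fix_of_marksK hm8)
    (Fn.fixAll_cons (Fn.fix_of_marksK hm9)
    (Fn.fixAll_cons (Fn.fix_of_marksK hm10)
    (Fn.fixAll_cons (Fn.fix_of_marksK hm11)
    (Fn.fixAll_cons (Fn.fix_of_marksK hm12)
    (Fn.fixAll_cons (Fn.fix_of_marksK hm13)
    (Fn.fixAll_cons (Fn.fix_of_marksK hm14)
    (Fn.fixAll_cons (Fn.fix_of_marksK hm15)
    (Fn.fixAll_cons (Fn.fix_of_marksK hm16)
    (Fn.fixAll_cons (Fn.fix_of_marksK hm17)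
    (Fn.fixAll_cons (Fn.fix_of_marksK hm18)
    (Fn.fixAll_cons (Fn.fix_of_marksK hm19)
    (Fn.fixAll_cons (Fn.fix_of_marksK hm20)
    (Fn.fixAll_cons (Fn.fix_of_marksK hm21)
    (Fn.fixAll_cons (Fn.fix_of_marksK hm22)
    (Fn.fixAll_cons (Fn.fix_of_marksK hm23)
    (Fn.fixAll_cons (Fn.fix_of_marksK hm24)
    (Fn.fixAll_cons (Fn.fix_of_marksK hm25)
    (Fn.fixAll_cons (Fn.fix_of_marksK hm26)
    (Fn.fixAll_cons (Fn.fix_of_marksK hm27)
    (Fn.fixAll_cons (Fn.fix_of_marksK hm28)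
    (Fn.fixAll_cons (Fn.fix_of_marksK hm29)
    (Fn.fixAll_cons (Fn.fix_of_marksK hm30)
    (Fn.fixAll_cons (Fn.fix_of_marksK hm31)
    (Fn.fixAll_cons (Fn.fix_of_marksK hm32)
    (Fn.fixAll_cons (Fn.fix_of_marksK hm33)
    (Fn.fixAll_cons (Fn.fix_of_marksK hm34)
    (Fn.fixAll_cons (Fn.fix_of_marksK hm35)
    (Fn.fixAll_cons (Fn.fix_of_marksK hm36)
    (Fn.fixAll_cons (Fn.fix_of_marksK hm37)
    (Fn.fixAll_cons (Fn.fix_of_marksK hm38)
    (Fn.fixAll_cons (Fn.fix_of_marksK hm39)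
    (Fn.fixAll_cons (Fn.fix_of_marksK hm40)
    (Fn.fixAll_cons (Fn.fix_of_marksK hm41)
    (Fn.fixAll_cons (Fn.fix_of_marksK hm42)
    (Fn.fixAll_cons (Fn.fix_of_marksK hm43)
    (Fn.fixAll_cons (Fn.fix_of_marksK hm44)
    (Fn.fixAll_cons hfix45
    (Fn.fixAll_cons hfix46
    (Fn.fixAll_nil TT cN)))))))))))))))))))))))))))))))))))))))))))))))

theorem hrels : Fn.relsK TT cN (coxWords Cfsg.Spor.Fi23.edges gen 10 ++ extraWords) = true := by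
  rw [hspecs]
  exact Fn.relsK_of_fixAll hfixall

theorem hsub : Fn.subK TT 10 sw = true := by decide +kernel

theorem htrans : Fn.transK TT 10 cN sw = true := by decide +kernel

theorem horbi0 : Fn.orbInvK TT sw 1 28161 = true := by
  refine Fn.orbInvK_of_ones ?_
  unfold sw
  simp only [List.forall_mem_cons, List.not_mem_nil, false_imp_iff, implies_true, and_true]
  exact ⟨horbi0_0, horbi0_1, horbi0_2, horbi0_3, horbi0_4, horbi0_5, horbi0_6, horbi0_7, horbi0_8⟩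

theorem horbc0 : Fn.orbConnK TT sw 1 28161 = true := by decide +kernel

theorem horbi1 : Fn.orbInvK TT sw 28161 31671 = true := by
  refine Fn.orbInvK_of_ones ?_
  unfold sw
  simp only [List.forall_mem_cons, List.not_mem_nil, false_imp_iff, implies_true, and_true]
  exact ⟨horbi1_0, horbi1_1, horbi1_2, horbi1_3, horbi1_4, horbi1_5, horbi1_6, horbi1_7, horbi1_8⟩

theorem horbc1 : Fn.orbConnK TT sw 28161 31671 = true := by decide +kernel

end Cfsg.Agent.Lib.Helper12.TC.Fi23o31671
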