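import Cfsg.Agent.Lib.Helper12.TC.Fn.Rho
import Cfsg.Agent.Lib.Helper12.TC.Fi23o31671.Chk0
import Cfsg.Agent.Lib.Helper12.TC.Fi23o31671.Chk1
import Cfsg.Agent.Lib.Helper12.TC.Fi23o31671.Chk2
import Cfsg.Agent.Lib.Helper12.TC.Fi23o31671.Chk3
import Cfsg.Agent.Lib.Helper12.TC.Fi23o31671.Chk4
import Cfsg.Agent.Lib.Helper12.TC.Fi23o31671.Chk5
import Cfsg.Agent.Lib.Helper12.TC.Fi23o31671.Chk6
import Cfsg.Agent.Lib.Helper12.TC.Fi23o31671.Chk7
import Cfsg.Agent.Lib.Helper12.TC.Fi23o31671.Chk8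
import Cfsg.Agent.Lib.Helper12.TC.Fi23o31671.Chk9
import Cfsg.Agent.Lib.Helper12.TC.Fi23o31671.Chk10
import Cfsg.Agent.Lib.Helper12.TC.Fi23o31671.Perm
import Cfsg.Agent.Lib.Helper12.TC.Fi23o31671.Fin

/-! the index theorem for Fi23o31671 (generated, helper12) -/

set_option autoImplicit false
set_option maxRecDepth 100000
set_option linter.unusedSimpArgs false

namespace Cfsg.Agent.Lib.Helper12.TC.Fi23o31671

open Cfsg.Agent.Lib.Helper12.TC Cfsg.Agent.Lib.Helper12.TC.Fi23Pres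

/-- the chunks of the certificate -/
def chunks : List (ℕ × List ℕ) :=
  [(41825, c0), (43825, c1), (45825, c2), (47825, c3), (49825, c4), (51825, c5), (53825, c6), (55825, c7), (57825, c8), (59825, c9), (61825, c10), (63825, c11), (65825, c12), (67825, c13), (69825, c14), (71825, c15), (73825, c16), (75825, c17), (77825, c18), (79825, c19), (81825, c20), (83825, c21), (85825, c22), (87825, c23), (89825, c24), (91825, c25), (93825, c26), (95825, c27), (97825, c28), (99825, c29), (101825, c30), (103825, c31), (105825, c32), (107825, c33), (109825, c34), (111825, c35), (113825, c36), (115825, c37), (117825, c38), (119825, c39), (121825, c40), (123825, c41), (125825, c42), (127825, c43), (129825, c44), (131825, c45), (133825, c46), (135825, c47), (137825, c48), (139825, c49), (141825, c50), (143825, c51), (145825, c52), (147825, c53), (149825, c54), (151825, c55), (153825, c56), (155825, c57), (157825, c58), (159825, c59), (161825, c60), (163825,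 c61), (165825, c62), (167825, c63), (169825, c64), (171825, c65), (173825, c66), (175825, c67), (177825, c68), (179825, c69), (181825, c70), (183825, c71), (185825, c72), (187825, c73), (189825, c74), (191825, c75), (193825, c76), (195825, c77), (197825, c78), (199825, c79), (201825, c80), (203825, c81), (205825, c82), (207825, c83)]

theorem hcover : coverK cD cK chunks = true := by decide +kernel

theorem hchunks : ∀ c ∈ chunks, chunkK F RW cR0 c.2 c.1 = true := by
  unfold chunks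
  simp only [List.forall_mem_cons, List.not_mem_nil, false_imp_iff, implies_true, and_true]
  exact ⟨chunk0, chunk1, chunk2, chunk3, chunk4, chunk5, chunk6, chunk7, chunk8, chunk9, chunk10, chunk11, chunk12, chunk13, chunk14, chunk15, chunk16, chunk17, chunk18, chunk19, chunk20, chunk21, chunk22, chunk23, chunk24, chunk25, chunk26, chunk27, chunk28, chunk29, chunk30, chunk31, chunk32, chunk33, chunk34, chunk35, chunk36, chunk37, chunk38, chunk39, chunk40, chunk41, chunk42, chunk43, chunk44, chunk45, chunk46, chunk47, chunk48, chunk49, chunk50, chunk51, chunk52, chunk53, chunk54, chunk55, chunk56, chunk57, chunk58, chunk59, chunk60, chunk61, chunk62, chunk63, chunk64, chunk65, chunk66, chunk67, chunk68, chunk69, chunk70, chunk71, chunk72, chunk73, chunk74, chunk75, chunk76, chunk77, chunk78, chunk79, chunk80, chunk81, chunk82, chunk83⟩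

/-- the subgroup generators -/
def S : Set (FreeGroup Cfsg.Spor.Fi23.Gen) := {Cfsg.Spor.Fi23.a, Cfsg.Spor.Fi23.b, Cfsg.Spor.Fi23.c, Cfsg.Spor.Fi23.d, Cfsg.Spor.Fi23.e, Cfsg.Spor.Fi23.f, Cfsg.Spor.Fi23.g, Cfsg.Spor.Fi23.h, Cfsg.Spor.Fi23.i}

set_option maxRecDepth 10000 in
theorem hS : (PresentedGroup.mk (Cfsg.Spor.coxRelators Cfsg.Spor.Fi23.edges ∪
      {r | r ∈ Cfsg.Spor.Fi23.extra})) '' S =
    {γ | ∃ w ∈ sw, γ = wprod (fun i => PresentedGroup.mk (Cfsg.Spor.coxRelators Cfsg.Spor.Fi23.edges ∪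
      {r | r ∈ Cfsg.Spor.Fi23.extra}) (FreeGroup.of (gen i))) w} := by
  ext γ
  constructor
  · rintro ⟨x, hx, rfl⟩
    rcases hx with rfl | rfl | rfl | rfl | rfl | rfl | rfl | rfl | rfl
    · exact ⟨[0], by decide, by simp [wprod, gen, pow_succ, mul_assoc]⟩
    · exact ⟨[1], by decide, by simp [wprod, gen, pow_succ, mul_assoc]⟩
    · exact ⟨[2], by decide, by simp [wprod, gen, pow_succ, mul_assoc]⟩
    · exact ⟨[3], by decide, by simp [wprod, gen, pow_succ, mul_assoc]⟩
    · exact ⟨[4], by decide, by simp [wprod, gen, pow_succ, mul_assoc]⟩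
    · exact ⟨[5], by decide, by simp [wprod, gen, pow_succ, mul_assoc]⟩
    · exact ⟨[6], by decide, by simp [wprod, gen, pow_succ, mul_assoc]⟩
    · exact ⟨[8], by decide, by simp [wprod, gen, pow_succ, mul_assoc]⟩
    · exact ⟨[9], by decide, by simp [wprod, gen, pow_succ, mul_assoc]⟩
  · rintro ⟨w, hw, rfl⟩
    simp only [sw, List.mem_cons, List.not_mem_nil, or_false] at hw
    rcases hw with rfl | rfl | rfl | rfl | rfl | rfl | rfl | rfl | rfl
    · exact ⟨Cfsg.Spor.Fi23.a, Or.inl rfl, by simp [wprod, gen, pow_succ, mul_assoc]⟩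
    · exact ⟨Cfsg.Spor.Fi23.b, Or.inr (Or.inl rfl), by simp [wprod, gen, pow_succ, mul_assoc]⟩
    · exact ⟨Cfsg.Spor.Fi23.c, Or.inr (Or.inr (Or.inl rfl)), by simp [wprod, gen, pow_succ, mul_assoc]⟩
    · exact ⟨Cfsg.Spor.Fi23.d, Or.inr (Or.inr (Or.inr (Or.inl rfl))), by simp [wprod, gen, pow_succ, mul_assoc]⟩
    · exact ⟨Cfsg.Spor.Fi23.e, Or.inr (Or.inr (Or.inr (Or.inr (Or.inl rfl)))), by simp [wprod, gen, pow_succ, mul_assoc]⟩
    · exact ⟨Cfsg.Spor.Fi23.f, Or.inr (Or.inr (Or.inr (Or.inr (Or.inr (Or.inl rfl))))), by simp [wprod, gen, pow_succ, mul_assoc]⟩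
    · exact ⟨Cfsg.Spor.Fi23.g, Or.inr (Or.inr (Or.inr (Or.inr (Or.inr (Or.inr (Or.inl rfl)))))), by simp [wprod, gen, pow_succ, mul_assoc]⟩
    · exact ⟨Cfsg.Spor.Fi23.h, Or.inr (Or.inr (Or.inr (Or.inr (Or.inr (Or.inr (Or.inr (Or.inl rfl))))))), by simp [wprod, gen, pow_succ, mul_assoc]⟩
    · exact ⟨Cfsg.Spor.Fi23.i, Or.inr (Or.inr (Or.inr (Or.inr (Or.inr (Or.inr (Or.inr (Or.inr (rfl)))))))), by simp [wprod, gen, pow_succ, mul_assoc]⟩

theorem hN0 : 0 < cN := by decide

/-- the permutation representation on the cosets of the subgroup -/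
theorem mainRho :
    ∃ ρ : PresentedGroup (Cfsg.Spor.coxRelators Cfsg.Spor.Fi23.edges ∪
      {r | r ∈ Cfsg.Spor.Fi23.extra}) →* Equiv.Perm (Fin cN),
      (∀ x < 10, ∀ i : Fin cN, ((ρ (PresentedGroup.mk (Cfsg.Spor.coxRelators Cfsg.Spor.Fi23.edges ∪
      {r | r ∈ Cfsg.Spor.Fi23.extra})
        (FreeGroup.of (gen x))) i : Fin cN) : ℕ) = TT x i) ∧
      ((Subgroup.closure S).map (PresentedGroup.mk (Cfsg.Spor.coxRelators Cfsg.Spor.Fi23.edges ∪
      {r | r ∈ Cfsg.Spor.Fi23.extra}))).index = cN ∧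
      ∃ Φ : (PresentedGroup (Cfsg.Spor.coxRelators Cfsg.Spor.Fi23.edges ∪
      {r | r ∈ Cfsg.Spor.Fi23.extra}) ⧸
          (Subgroup.closure S).map (PresentedGroup.mk (Cfsg.Spor.coxRelators Cfsg.Spor.Fi23.edges ∪
      {r | r ∈ Cfsg.Spor.Fi23.extra}))) ≃ Fin cN,
        ∀ γ : PresentedGroup (Cfsg.Spor.coxRelators Cfsg.Spor.Fi23.edges ∪
      {r | r ∈ Cfsg.Spor.Fi23.extra}),
          Φ (γ : PresentedGroup (Cfsg.Spor.coxRelators Cfsg.Spor.Fi23.edges ∪
      {r | r ∈ Cfsg.Spor.Fi23.extra}) ⧸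
            (Subgroup.closure S).map (PresentedGroup.mk (Cfsg.Spor.coxRelators Cfsg.Spor.Fi23.edges ∪
      {r | r ∈ Cfsg.Spor.Fi23.extra}))) = ρ γ ⟨0, hN0⟩ :=
  Fn.presented_rho Cfsg.Spor.Fi23.edges Cfsg.Spor.Fi23.extra gen idx 10 (by decide) hidx hgi hnodes
    extraWords hextra sw S hS F RW finrecs TT rotW chunks cD cK cR0 cR cN hdefs hchunks hcover
    hrelc hlet hperm hrels hsub htrans hfin hlen hN0

end Cfsg.Agent.Lib.Helper12.TC.Fi23o31671
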